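import Cfsg.Agent.Omega.OM.Lev.BlkGen
import Cfsg.Agent.Omega.OM.Lev.Wc
import Cfsg.Agent.Omega.Node.MulG

/-!
# Minimal parabolics which move `Ω₁(Z(T))` are generated by `T` and blocks, over any weakly closed level `K₀`

`LevB.blkGen` with `lev S n` replaced by a weakly closed level `K₀`; `BK S K₀ = C_S(Ω₁Z(nxt S K₀))`,
`ZK S K₀ = Ω₁Z(nxt S K₀)`.

* `lb`, `wc`, `zc_B`, `isLev_T`, `bz_K`; `blkGen`;
* `fixPt_K` : fixed points do not lift, if `K₀ ≤ O₂(H)`.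
-/

set_option autoImplicit false

namespace Cfsg.Agent.Omega.OM.SwapK

open Subgroup Cfsg Cfsg.Agent.ZN.ChoiceBase Cfsg.Agent.ZN.ChoiceSit
open Cfsg.Agent.ZN (jj zj bau zc zl o2)
open Cfsg.Agent.MinSimple.MinParabolic (IsMinPar)
open Cfsg.Agent.Omega.LemmaK (Block WeakNormal)
open Cfsg.Agent.Omega.FFThm (NatKM SymKM OffM NoOverM)
open Cfsg.Agent.Omega.FrameFF (cv)
open Cfsg.Agent.Omega.OM.Uni (FB)
open Cfsg.Agent.Omega.OM.LevD (LB)
open Cfsg.Agent.Omega.OM.LevB (FBlk)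
open Cfsg.Agent.Omega.OM.GLev
open Cfsg.Agent.Omega.NO3S.Level

universe u

variable {G : Type u} [Group G] [Finite G]

/-- `Z_J = Ω₁Z(nxt S K₀)` -/
def ZK (S K₀ : Subgroup G) : Subgroup G := zc (nxt S K₀)

/-- `B = C_S(Z_J)` -/
def BK (S K₀ : Subgroup G) : Subgroup G := S ⊓ centralizer (zc (nxt S K₀) : Set G)

/-- A weakly closed level. -/
structure WL (S : Sylow 2 G) (K₀ : Subgroup G) : Prop where
  wc : NO3b.Wc.WC (S : Subgroup G) K₀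
  lev : Lev (S : Subgroup G) K₀

variable {S : Sylow 2 G} {K₀ : Subgroup G}

theorem WL.of_lev (S : Sylow 2 G) (n : ℕ) : WL S (NO3S.Level.lev (S : Subgroup G) n) := ⟨lev_wc n, lev_isLev _ n⟩

omit [Finite G] in
theorem WL.of_top {P : Subgroup G} (h : Node.MulG.Top S P K₀) : WL S K₀ := ⟨h.wc, h.lev⟩

namespace WL

variable (h : WL S K₀)
include h

theorem lb : LB S (nxt (S : Subgroup G) K₀) (BK (S : Subgroup G) K₀) (ZK (S : Subgroup G) K₀) :=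
  Node.MulG.lb_nxt h.wc

theorem wcB : WeakCl.WC (BK (S : Subgroup G) K₀) := Lev.Wc.wc_cent_Lev h.lev.next rfl

theorem K₀B : K₀ ≤ BK (S : Subgroup G) K₀ := (le_nxt h.lev.le).trans h.lb.KB

/-- `N_G(B) ≤ N_G(K₀)` -/
theorem norm_B : normalizer (BK (S : Subgroup G) K₀ : Set G) ≤ normalizer (K₀ : Set G) :=
  Lev.Wc.norm_B_Lev h.lev rfl

/-- `Ω₁Z(B) = ZJ` -/
theorem zc_B : zc (BK (S : Subgroup G) K₀) = ZK (S : Subgroup G) K₀ := by
  have hb := h.lb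
  ext z
  constructor
  · intro hz
    obtain ⟨h1, h2, h3⟩ := mem_zc.1 hz
    exact h.lev.next.mem_of_comm (hb.BS h1) h2 fun y hy => h3 y (hb.KB hy)
  · intro hz
    exact mem_zc.2 ⟨hb.ZB hz, hb.sq z hz, fun y hy => (mem_centralizer_iff.1 (hb.Bc hy) z hz).symm⟩

theorem norm_T {T : Subgroup G} (hT : IsPGroup 2 T) (hle : K₀ ≤ T) :
    normalizer (T : Set G) ≤ normalizer (K₀ : Set G) := fun _ hg =>
  mem_normalizer_iff_cj.2 (LevD.norm_of_wc h.wc hT hle hg)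

theorem isLev_T {T : Subgroup G} (hT : IsPGroup 2 T) (hle : K₀ ≤ T) : Lev T K₀ where
  le := hle
  jjle := by
    rw [MinSimple.EmptyTI.jj_eq S hT (h.lev.jjle.trans hle)]
    exact h.lev.jjle
  norm := fun _ h1 h2 => h.norm_T (hT.to_le h2) h1

theorem nxt_T {T : Subgroup G} (hT : IsPGroup 2 T) (hle : nxt (S : Subgroup G) K₀ ≤ T) :
    nxt T K₀ = nxt (S : Subgroup G) K₀ := LevD.nxt_eq h.wc (wc_nxt h.wc) hT hle

/-- `BZ` at `K₀` -/
theorem bz {T : Subgroup G} (hT : IsPGroup 2 T) (hB : BK (S : Subgroup G) K₀ ≤ T) :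
    BZ T (zc K₀) (BO T K₀) (BK (S : Subgroup G) K₀) (ZK (S : Subgroup G) K₀) := by
  have hb := h.lb
  have hle := hb.KB.trans hB
  refine
    { mem_ZJ := fun z => ?_
      eqB := (hb.inf_eq hT hB).symm
      zcB := h.zc_B
      wn := fun R hR hBR => hb.two_le hR hBR
      sylB := fun R hR hBR hRc => hb.syl.2.2 R hRc hR hBR }
  rw [ZK, ← h.nxt_T hT hle]
  exact zc_nxt (h.isLev_T hT (h.K₀B.trans hB))

variable {T H : Subgroup G}

/-- A block `L` over `B` with `H = ⟨T, L⟩`. -/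
theorem exists_fblk (hT : Syl T H) (hB : BK (S : Subgroup G) K₀ ≤ T) (hP : IsMinPar T H)
    (hc : H ⊓ centralizer (o2 H : Set G) ≤ o2 H) (hK : K₀ ≤ o2 H) (hn : ¬ nxt (S : Subgroup G) K₀ ≤ o2 H)
    (hZ : ¬ H ≤ centralizer (zc T : Set G)) :
    ∃ L V : Subgroup G, L ≤ H ∧ FBlk (BK (S : Subgroup G) K₀) L V ∧ H ≤ T ⊔ L := by
  have hb := h.lb
  have hle := hb.KB.trans hB
  have hT2 := hT.2.1
  have hL := h.isLev_T hT2 (h.K₀B.trans hB)
  have hnx := h.nxt_T hT2 hle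
  have hV : zl T H ≤ zc K₀ :=
    (MinSimple.VModule.zl_le_zc hT.1 hT2 (syl_not_dvd hT) hc).trans (hL.zc_o2_le hK (o2_le_syl hT))
  have hQC := BlkGen.inf_cent hT hP hZ
  obtain ⟨A, hA, hAQ⟩ : ∃ A ∈ BO T K₀, ¬ A ≤ o2 H := by
    by_contra hcon
    push Not at hcon
    apply hn
    rw [← hnx]
    exact sup_le ((inf_le_inf_left _ (centralizer_le hV)).trans hQC) (sSup_le hcon)
  have hoff : OffM (zl T H) A := hA.2.offM hV fun h1 => hAQ ((le_inf hA.1 h1).trans hQC)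
  obtain ⟨hno, hcon⟩ := FF.Glob.ffthmM G T H hT hP hc ⟨A, hA.1.trans hT.1, hoff⟩
  have hge := GE.of_lev hT hP hc hZ hL hK hno
  have hbz := h.bz hT2 hB
  have hw := hb.weakNormal
  rcases hcon with ⟨F, _, _, _, k, hk, ⟨N⟩⟩ | ⟨k, m, hk, hm, hN⟩
  · obtain ⟨L, N', N₁, D', -, hLH, hpb, hsup⟩ := GNat.exists_pb hge hbz N hk ⟨A, hA, hAQ⟩
    exact ⟨L, _, hLH, ⟨⟨_, _, hpb.fb⟩, hpb.block hw⟩, hsup⟩
  · obtain ⟨L, N', N₁, D', q, -, hLH, hpb, hsup⟩ := LevB.symBlk G T H _ _ _ _ k m hge hbz hk hm hN ⟨A, hA, hAQ⟩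
    exact ⟨L, _, hLH, ⟨⟨_, _, hpb.fb⟩, hpb.block hw⟩, hsup⟩

/-- **Minimal parabolics of stage `K₀` which move `Ω₁(Z(T))` are generated by `T` and an FF-block over `B`.** -/
theorem blkGen (hT : Syl T H) (hB : BK (S : Subgroup G) K₀ ≤ T)
    (hP : IsMinPar T H) (hc : H ⊓ centralizer (o2 H : Set G) ≤ o2 H) (hK : K₀ ≤ o2 H) :
    LevD.BlkGen (nxt (S : Subgroup G) K₀) (ZK (S : Subgroup G) K₀) (FBlk (BK (S : Subgroup G) K₀)) T H := by
  intro hn hZ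
  obtain ⟨L, V, -, hF, hsup⟩ := h.exists_fblk hT hB hP hc hK hn hZ
  exact hsup.trans (sup_le le_sup_right (le_sup_of_le_left (LevD.blk_le_K0 hF)))

/-- **Fixed points do not lift**, `K₀ ≤ O₂(H)`. -/
theorem fixPt (hT : Syl T H) (hle : nxt (S : Subgroup G) K₀ ≤ T) (hmin : IsMinPar T H) (hK : K₀ ≤ o2 H) :
    LevD.FixPt (nxt (S : Subgroup G) K₀) T H := fun hn hz =>
  LevD.fixPt_nxt hT hmin (h.isLev_T hT.2.1 ((le_nxt h.lev.le).trans hle)) hK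
    (by rwa [h.nxt_T hT.2.1 hle]) hz

end WL

end Cfsg.Agent.Omega.OM.SwapK
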